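import Mathlib

/-! A point with algebraic residue extension is closed in its fibre. -/

universe u

open AlgebraicGeometry CategoryTheory

namespace Groth.Agent.H3Sch

/-- Equal points have surjective specialization maps. -/
theorem stalkSpecializes_surjective {S : Scheme.{u}} {a b : S} (h : a ⤳ b) (e : a = b) :
    Function.Surjective (S.presheaf.stalkSpecializes h).hom := by
  subst e
  rw [TopCat.Presheaf.stalkSpecializes_refl]
  exact fun z => ⟨z, rfl⟩

/-- If a ring map to a field which is algebraic over the image of a subfield is surjective on that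
subfield, the map is local. -/
theorem isUnit_of_map_ne_zero {F L A : Type*} [Field F] [Field L] [CommRing A] [IsLocalRing A]
    [Algebra F L] [Algebra.IsAlgebraic F L] (φ : A →+* L)
    (hF : ∀ c : F, algebraMap F L c ∈ φ.range) {a : A} (ha : φ a ≠ 0) : IsUnit a := by
  let T : Subalgebra F L := { φ.range.toSubsemiring with algebraMap_mem' := hF }
  have h1 : (φ a)⁻¹ ∈ T :=
    T.inv_mem_of_algebraic (x := ⟨φ a, ⟨a, rfl⟩⟩) (Algebra.IsAlgebraic.isAlgebraic _)
  obtain ⟨b, hb⟩ := h1
  rcases IsLocalRing.isUnit_or_isUnit_one_sub_self (a * b) with h | h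
  · exact isUnit_of_mul_isUnit_left h
  · exfalso
    have h0 := h.map φ
    rw [map_sub, map_one, map_mul, hb, mul_inv_cancel₀ ha, sub_self] at h0
    exact not_isUnit_zero h0

theorem eq_of_specializes_of_isAlgebraic {X S : Scheme.{u}} (f : X ⟶ S) (x : X)
    (halg : @Algebra.IsAlgebraic (S.residueField (f.base x)) (X.residueField x) _ _ (f.residueFieldMap x).hom.toAlgebra)
    {y : X} (h : x ⤳ y) (he : f.base x = f.base y) : x = y := by
  algebraize [(f.residueFieldMap x).hom]
  have : Algebra.IsAlgebraic (S.residueField (f.base x)) (X.residueField x) := halg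
  let φ : X.presheaf.stalk y ⟶ X.residueField x := X.presheaf.stalkSpecializes h ≫ X.residue x
  have hF : ∀ c : S.residueField (f.base x), algebraMap _ (X.residueField x) c ∈ φ.hom.range := by
    intro c
    obtain ⟨t, rfl⟩ := S.residue_surjective (f.base x) c
    obtain ⟨w, rfl⟩ := stalkSpecializes_surjective (h.map f.continuous) he t
    refine ⟨(f.stalkMap y).hom w, ?_⟩
    have key : f.stalkMap y ≫ φ = S.presheaf.stalkSpecializes (h.map f.continuous) ≫
        S.residue (f.base x) ≫ f.residueFieldMap x := by
      rw [Scheme.residue_residueFieldMap, ← Category.assoc,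
        ← Category.assoc (g := f.stalkMap x), Scheme.Hom.stalkSpecializes_stalkMap]
    exact congr($(key).hom w)
  have hlocal : IsLocalHom φ.hom := ⟨fun a ha => isUnit_of_map_ne_zero φ.hom hF ha.ne_zero⟩
  have h1 : (Spec.map φ).base (IsLocalRing.closedPoint (X.residueField x)) =
      IsLocalRing.closedPoint (X.presheaf.stalk y) := Spec_closedPoint
  have h2 : Spec.map φ ≫ X.fromSpecStalk y = X.fromSpecResidueField x := by
    rw [Spec.map_comp, Category.assoc, Scheme.SpecMap_stalkSpecializes_fromSpecStalk]
    rfl
  calc x = (X.fromSpecResidueField x).base (IsLocalRing.closedPoint (X.residueField x)) :=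
        (Scheme.fromSpecResidueField_apply _ _).symm
    _ = y := by rw [← h2, Scheme.Hom.comp_apply, h1, Scheme.fromSpecStalk_closedPoint]

theorem isClosed_singleton_asFiber {X S : Scheme.{u}} (f : X ⟶ S) (x : X)
    (halg : @Algebra.IsAlgebraic (S.residueField (f.base x)) (X.residueField x) _ _ (f.residueFieldMap x).hom.toAlgebra) :
    IsClosed ({f.asFiber x} : Set ↑(f.fiber (f.base x))) := by
  refine isClosed_of_closure_subset fun y hy => ?_
  have hs : f.asFiber x ⤳ y := specializes_iff_mem_closure.2 hy
  have h' : x ⤳ f.fiberι _ y := by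
    have := hs.map (f.fiberι (f.base x)).continuous
    rwa [f.fiberι_asFiber] at this
  have hy' : f.base (f.fiberι _ y) = f.base x := by
    have : f.fiberι (f.base x) y ∈ Set.range (f.fiberι (f.base x)) := ⟨y, rfl⟩
    rw [f.range_fiberι] at this
    exact this
  refine (f.fiberι _).isEmbedding.injective ?_
  rw [f.fiberι_asFiber]
  exact (eq_of_specializes_of_isAlgebraic f x halg h' hy'.symm).symm

end Groth.Agent.H3Sch
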